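import Groth.Agent.Lib.Helper25.SchCM.Main

/-!
# A locally Noetherian scheme with a dualizing module is Cohen–Macaulay (S3675)
-/

set_option autoImplicit false
universe u

namespace Groth.Agent.Lib.Helper25.SchCM

open CategoryTheory CategoryTheory.Limits AlgebraicGeometry DerivedCategory
open Groth.Agent.Lib.Helper25.LocDual

attribute [local instance] HasDerivedCategory.standard

theorem subsingleton_stalk_of_isZero {X : Scheme.{u}} (M : X.Modules) (hM : IsZero M) (x : X) :
    Subsingleton (M.presheaf.stalk x) := by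
  have h0 : ∀ t : M.presheaf.stalk x, t = 0 := by
    intro t
    obtain ⟨U, hx, s, rfl⟩ := TopCat.Presheaf.germ_exist M.presheaf (x := x) t
    have hs : s = 0 := by
      have h1 : (𝟙 M : M ⟶ M) = 0 := hM.eq_of_src _ _
      have h2 : (Scheme.Modules.Hom.app (𝟙 M) U) s = (Scheme.Modules.Hom.app (0 : M ⟶ M) U) s := by
        rw [h1]
      simpa using h2
    rw [hs, map_zero]
  exact ⟨fun a b => (h0 a).trans (h0 b).symm⟩

variable {X : Scheme.{u}}
  [∀ (U : Scheme.{u}) (j : U ⟶ X) [IsOpenImmersion j],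
    PreservesFiniteLimits (Scheme.Modules.restrictFunctor j)]
  [∀ (R : CommRingCat.{u}), PreservesFiniteLimits (tilde.functor R)]

theorem chart_cm_iff2 (A : Type u) [CommRing A] (j : Spec (CommRingCat.of A) ⟶ X)
    [IsOpenImmersion j] (ω : DCoh.D X) (hω : Dual2.IsDualizingSch X ω)
    (y : Spec (CommRingCat.of A)) :
    LocCoh.IsCohenMacaulayLocalRing (X.presheaf.stalk (j y)) ↔
      ∃ m : ℤ, ∀ i : ℤ, i ≠ m → ¬ Nontrivial ((DCoh.HD ω i).presheaf.stalk (j y)) := by
  obtain ⟨ωA, hωA, ⟨e⟩⟩ := hω A j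
  have := hωA.isNoetherianRing
  rw [chart_cm_iff_loc A j y, cm_localization_iff ωA hωA (show PrimeSpectrum A from y)]
  simp only [nontrivial_stalk_HD_iff A j ω ωA e y]

/-- S3675 -/
theorem cm_of_dualizing_module (ω : X.Modules)
    (hD : Dual2.IsDualizingSch X (DCoh.inD X ω)) (x : X) :
    LocCoh.IsCohenMacaulayLocalRing (X.presheaf.stalk x) := by
  obtain ⟨R, j, hj, y, rfl⟩ := exists_chart x
  rw [chart_cm_iff2 R j _ hD y]
  refine ⟨0, fun i hi hnt => ?_⟩
  have hz : IsZero (DCoh.HD (DCoh.inD X ω) i) := by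
    rcases lt_or_gt_of_ne hi with h | h
    · exact isZero_of_isGE _ 0 i h
    · exact isZero_of_isLE _ 0 i h
  have := subsingleton_stalk_of_isZero _ hz (j y)
  exact not_subsingleton _ this

end Groth.Agent.Lib.Helper25.SchCM
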