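import Groth.Prelude.Def_DualSch
import Groth.Agent.Lib.Helper25.SchCM.MapHomology

/-!
# Stalks of the cohomology sheaves of a complex which is affine-locally a derived tilde
-/

set_option autoImplicit false
universe u

namespace Groth.Agent.Lib.Helper25.SchCM

open CategoryTheory CategoryTheory.Limits AlgebraicGeometry DerivedCategory

attribute [local instance] HasDerivedCategory.standard

section Basic

/-- stalks of a restriction along an open immersion -/
noncomputable def stalkRestrictIso {X U : Scheme.{u}} (j : U ⟶ X) [IsOpenImmersion j]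
    (M : X.Modules) (y : U) :
    (M.restrict j).presheaf.stalk y ≅ M.presheaf.stalk (j y) :=
  PresheafedSpace.restrictStalkIso (C := Ab) ⟨X.toTopCat, M.presheaf⟩ j.isOpenEmbedding y

theorem nontrivial_of_ab_iso {G H : Ab.{u}} (e : G ≅ H) : Nontrivial G ↔ Nontrivial H := by
  let E : G ≃ H := e.addCommGroupIsoToAddEquiv.toEquiv
  exact ⟨fun h => E.symm.nontrivial, fun h => E.nontrivial⟩

set_option backward.isDefEq.respectTransparency.types false in
theorem nontrivial_stalk_tilde_iff' (R : CommRingCat.{u}) (N : ModuleCat.{u} R)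
    (y : PrimeSpectrum.Top R) :
    Nontrivial ((tilde N).presheaf.stalk y) ↔
      Nontrivial (LocalizedModule y.asIdeal.primeCompl N) := by
  have hl : IsLocalizedModule y.asIdeal.primeCompl (tilde.toStalk N y).hom :=
    inferInstance
  have E := IsLocalizedModule.iso y.asIdeal.primeCompl (tilde.toStalk N y).hom
  constructor
  · intro h
    have h' : Nontrivial (ModuleCat.of R ((tilde N).presheaf.stalk y)) := h
    exact @Equiv.nontrivial _ _ E.toEquiv h'
  · intro h
    have h' : Nontrivial (LocalizedModule y.asIdeal.primeCompl (ModuleCat.of R N)) := h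
    have := @Equiv.nontrivial _ _ E.symm.toEquiv h'
    exact this

set_option backward.isDefEq.respectTransparency.types false in
theorem nontrivial_stalk_tilde_iff (A : Type u) [CommRing A] (N : ModuleCat.{u} A)
    (y : PrimeSpectrum A) :
    Nontrivial (((tilde.functor (CommRingCat.of A)).obj N).presheaf.stalk y) ↔
      y ∈ Module.support A N :=
  (nontrivial_stalk_tilde_iff' (CommRingCat.of A) N y).trans
    (Module.mem_support_iff (R := A) (M := N) (p := y)).symm

set_option backward.isDefEq.respectTransparency.types false in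
/-- the local ring of `X` at a point of an affine chart -/
noncomputable def stalkEquiv {X : Scheme.{u}} (A : Type u) [CommRing A]
    (j : Spec (CommRingCat.of A) ⟶ X) [IsOpenImmersion j] (y : Spec (CommRingCat.of A)) :
    X.presheaf.stalk (j y) ≃+* Localization.AtPrime (PrimeSpectrum.asIdeal (R := A) y) :=
  (asIso (j.stalkMap y)).commRingCatIsoToRingEquiv.trans
    (StructureSheaf.stalkIso (CommRingCat.of A) y).symm.toRingEquiv

theorem nonempty_tilde_homology_iso (R : CommRingCat.{u})
    [PreservesFiniteLimits (tilde.functor R)] (K : DerivedCategory (ModuleCat.{u} R)) (i : ℤ) :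
    Nonempty ((tilde.functor R).obj ((homologyFunctor (ModuleCat.{u} R) i).obj K) ≅
      (homologyFunctor _ i).obj ((DCoh.tildeD R).obj K)) :=
  nonempty_map_homology_iso (tilde.functor R) K i

end Basic

variable {X : Scheme.{u}}
  [∀ (U : Scheme.{u}) (j : U ⟶ X) [IsOpenImmersion j],
    PreservesFiniteLimits (Scheme.Modules.restrictFunctor j)]
  [∀ (R : CommRingCat.{u}), PreservesFiniteLimits (tilde.functor R)]
  (A : Type u) [CommRing A] (j : Spec (CommRingCat.of A) ⟶ X) [IsOpenImmersion j]
  (ω : DCoh.D X) (ωA : Dual.D A)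
  (e : (DCoh.restrictD j).obj ω ≅ (DCoh.tildeD (CommRingCat.of A)).obj ωA)

include e in
set_option backward.isDefEq.respectTransparency.types false in
theorem nontrivial_stalk_HD_iff (y : Spec (CommRingCat.of A)) (i : ℤ) :
    Nontrivial ((DCoh.HD ω i).presheaf.stalk (j y)) ↔
      (show PrimeSpectrum A from y) ∈ Module.support A (Dual.HD A ωA i) := by
  rw [← nontrivial_of_ab_iso (stalkRestrictIso j (DCoh.HD ω i) y)]
  obtain ⟨e1⟩ := nonempty_map_homology_iso (Scheme.Modules.restrictFunctor j) ω i
  obtain ⟨e2⟩ := nonempty_tilde_homology_iso (CommRingCat.of A) ωA i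
  let E2 : (DCoh.HD ω i).restrict j ≅
      (tilde.functor (CommRingCat.of A)).obj
        ((homologyFunctor (ModuleCat.{u} A) i).obj ωA) :=
    e1 ≪≫ (homologyFunctor _ i).mapIso e ≪≫ e2.symm
  have E3 := (TopCat.Presheaf.stalkFunctor Ab y).mapIso
    ((Scheme.Modules.toPresheaf _).mapIso E2)
  rw [← nontrivial_stalk_tilde_iff A ((homologyFunctor (ModuleCat.{u} A) i).obj ωA) y]
  exact nontrivial_of_ab_iso E3

end Groth.Agent.Lib.Helper25.SchCM
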