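import Groth.Agent.Lib.Helper25.SchCM.Main
import Groth.Agent.Lib.Helper25.GorUniq.GorLocus
import Groth.Agent.Lib.Helper85.GorRing

/-!
# The Gorenstein locus of a locally Noetherian scheme with a dualizing complex is open (S3621)
-/

set_option autoImplicit false
universe u

namespace Groth.Agent.Lib.Helper25.SchCM

open CategoryTheory CategoryTheory.Limits AlgebraicGeometry DerivedCategory
open Groth.Agent.Lib.Helper25.LocDual Groth.Agent.Lib.Helper25.GorUniq

attribute [local instance] HasDerivedCategory.standard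

variable {X : Scheme.{u}}

theorem chart_gor_iff_loc (A : Type u) [CommRing A] (j : Spec (CommRingCat.of A) ⟶ X)
    [IsOpenImmersion j] (y : Spec (CommRingCat.of A)) :
    LocCoh.IsGorensteinLocalRing (X.presheaf.stalk (j y)) ↔
      LocCoh.IsGorensteinLocalRing (Localization.AtPrime (PrimeSpectrum.asIdeal (R := A) y)) :=
  ⟨fun h => @Groth.Agent.Lib.Helper85.GorRing.gor_of_ringEquiv _ _ _ _ (stalkEquiv A j y) h,
    fun h => @Groth.Agent.Lib.Helper85.GorRing.gor_of_ringEquiv _ _ _ _ (stalkEquiv A j y).symm h⟩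

variable
  [∀ (U : Scheme.{u}) (j : U ⟶ X) [IsOpenImmersion j],
    PreservesFiniteLimits (Scheme.Modules.restrictFunctor j)]
  [∀ (R : CommRingCat.{u}), PreservesFiniteLimits (tilde.functor R)]

/-- S3621 -/
theorem sch_gor_open (ω : DCoh.D X) (hω : Dual2.IsDualizingSch X ω) :
    IsOpen {x : X | LocCoh.IsGorensteinLocalRing (X.presheaf.stalk x)} := by
  rw [isOpen_iff_forall_mem_open]
  intro x hx
  obtain ⟨R, j, hj, y, rfl⟩ := exists_chart x
  obtain ⟨ωA, hωA, -⟩ := hω R j
  have := hωA.isNoetherianRing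
  have hopen : IsOpen {p : PrimeSpectrum R |
      LocCoh.IsGorensteinLocalRing (Localization.AtPrime p.asIdeal)} :=
    gor_locus_open ωA hωA
  let V : Set (Spec (CommRingCat.of R)) := {y' |
    LocCoh.IsGorensteinLocalRing (Localization.AtPrime (PrimeSpectrum.asIdeal (R := R) y'))}
  have hV : IsOpen V := hopen
  refine ⟨j '' V, ?_, j.isOpenEmbedding.isOpenMap V hV, ⟨y, ?_, rfl⟩⟩
  · rintro _ ⟨y', hy', rfl⟩
    exact (chart_gor_iff_loc R j y').2 hy'
  · exact (chart_gor_iff_loc R j y).1 hx

end Groth.Agent.Lib.Helper25.SchCM
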