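import Groth.Agent.Lib.Helper25.SchCM.GorSch
import Groth.Agent.Lib.Helper25.GorUniq.GorSelf
import Groth.Agent.Lib.Helper25.LocDual.DimFin
import Groth.Prelude.Def_Dual3

/-!
# On a Gorenstein scheme with a dualizing complex the structure sheaf is dualizing (S3622)
-/

set_option autoImplicit false
universe u

namespace Groth.Agent.Lib.Helper25.SchCM

open CategoryTheory CategoryTheory.Limits AlgebraicGeometry DerivedCategory
open Groth.Agent.Lib.Helper25.LocDual Groth.Agent.Lib.Helper25.GorUniq

attribute [local instance] HasDerivedCategory.standard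

variable {X : Scheme.{u}}
  [∀ (U : Scheme.{u}) (j : U ⟶ X) [IsOpenImmersion j],
    PreservesFiniteLimits (Scheme.Modules.restrictFunctor j)]
  [∀ (R : CommRingCat.{u}), PreservesFiniteLimits (tilde.functor R)]

noncomputable def restrictUnit {U : Scheme.{u}} (j : U ⟶ X) [IsOpenImmersion j] :
    (DCoh.restrictD j).obj (DCoh.inD X (Coh.structureModule X)) ≅
      DCoh.inD U (Coh.structureModule U) :=
  ((Scheme.Modules.restrictFunctor j).mapDerivedCategorySingleFunctor 0).app _ ≪≫
    (singleFunctor U.Modules 0).mapIso (Scheme.Modules.restrictUnitIso j)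

omit [∀ (U : Scheme.{u}) (j : U ⟶ X) [IsOpenImmersion j],
    PreservesFiniteLimits (Scheme.Modules.restrictFunctor j)] in
noncomputable def tildeUnit (R : CommRingCat.{u}) :
    (DCoh.tildeD R).obj ((singleFunctor (ModuleCat.{u} R) 0).obj (ModuleCat.of R R)) ≅
      DCoh.inD (Spec (CommRingCat.of R)) (Coh.structureModule (Spec (CommRingCat.of R))) :=
  ((tilde.functor R).mapDerivedCategorySingleFunctor 0).app _ ≪≫
    (singleFunctor _ 0).mapIso (tildeSelf)

/-- S3622 -/
theorem sch_gor_self (hX : Dual3.IsGorenstein X) :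
    (∃ K : DCoh.D X, Dual2.IsDualizingSch X K) ↔
      Dual2.IsDualizingSch X (DCoh.inD X (Coh.structureModule X)) := by
  constructor
  · rintro ⟨K, hK⟩
    intro A _ j _
    obtain ⟨ωA, hωA, -⟩ := hK A j
    have := hωA.isNoetherianRing
    refine ⟨Dual.inD A A, ?_, ⟨restrictUnit j ≪≫ (tildeUnit (CommRingCat.of A)).symm⟩⟩
    exact isDualizing_self_of_gorenstein A
      (fun p => (chart_gor_iff_loc A j p).1 (hX.2 (j p)))
      (ringKrullDim_lt_top_of_dualizing ωA hωA)
  · intro h
    exact ⟨_, h⟩

end Groth.Agent.Lib.Helper25.SchCM
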