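import Groth.Agent.Lib.Helper25.SchCM.Chart
import Groth.Agent.Lib.Helper25.LocDual.CMLocus2
import Groth.Agent.Lib.Helper56.FibreCM

/-!
# The Cohen–Macaulay locus of a locally Noetherian scheme with a dualizing complex (S1809)
-/

set_option autoImplicit false
universe u

namespace Groth.Agent.Lib.Helper25.SchCM

open CategoryTheory CategoryTheory.Limits AlgebraicGeometry DerivedCategory
open Groth.Agent.Lib.Helper25.LocDual

attribute [local instance] HasDerivedCategory.standard

variable {X : Scheme.{u}}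
  [∀ (U : Scheme.{u}) (j : U ⟶ X) [IsOpenImmersion j],
    PreservesFiniteLimits (Scheme.Modules.restrictFunctor j)]
  [∀ (R : CommRingCat.{u}), PreservesFiniteLimits (tilde.functor R)]

theorem chart_cm_iff_loc (A : Type u) [CommRing A] (j : Spec (CommRingCat.of A) ⟶ X)
    [IsOpenImmersion j] (y : Spec (CommRingCat.of A)) :
    LocCoh.IsCohenMacaulayLocalRing (X.presheaf.stalk (j y)) ↔
      LocCoh.IsCohenMacaulayLocalRing (Localization.AtPrime (PrimeSpectrum.asIdeal (R := A) y)) :=
  ⟨Groth.Agent.Lib.Helper56.isCohenMacaulayLocalRing_of_ringEquiv (stalkEquiv A j y),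
    Groth.Agent.Lib.Helper56.isCohenMacaulayLocalRing_of_ringEquiv (stalkEquiv A j y).symm⟩

theorem chart_cm_iff (A : Type u) [CommRing A] (j : Spec (CommRingCat.of A) ⟶ X)
    [IsOpenImmersion j] (ω : DCoh.D X) (hω : Dual2.IsDualizingSch X ω)
    (y : Spec (CommRingCat.of A)) :
    LocCoh.IsCohenMacaulayLocalRing (X.presheaf.stalk (j y)) ↔
      ∃! i : ℤ, Nontrivial ((DCoh.HD ω i).presheaf.stalk (j y)) := by
  obtain ⟨ωA, hωA, ⟨e⟩⟩ := hω A j
  haveI := hωA.isNoetherianRing
  rw [chart_cm_iff_loc A j y, cm_localization_iff' ωA hωA (show PrimeSpectrum A from y)]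
  simp only [nontrivial_stalk_HD_iff A j ω ωA e y]

omit [∀ (U : Scheme.{u}) (j : U ⟶ X) [IsOpenImmersion j],
    PreservesFiniteLimits (Scheme.Modules.restrictFunctor j)]
  [∀ (R : CommRingCat.{u}), PreservesFiniteLimits (tilde.functor R)] in
theorem exists_chart (x : X) : ∃ (R : CommRingCat.{u}) (j : Spec (CommRingCat.of R) ⟶ X)
    (_ : IsOpenImmersion j) (y : Spec (CommRingCat.of R)), j y = x := by
  obtain ⟨y, hy⟩ := X.affineOpenCover.covers x
  exact ⟨X.affineOpenCover.X (X.affineOpenCover.idx x),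
    X.affineOpenCover.f (X.affineOpenCover.idx x), X.affineOpenCover.map_prop _, y, hy⟩

/-- S1809 -/
theorem sch_cm (ω : DCoh.D X) (hω : Dual2.IsDualizingSch X ω) :
    (∀ x : X, LocCoh.IsCohenMacaulayLocalRing (X.presheaf.stalk x) ↔
      ∃! i : ℤ, Nontrivial ((DCoh.HD ω i).presheaf.stalk x)) ∧
    IsOpen {x : X | LocCoh.IsCohenMacaulayLocalRing (X.presheaf.stalk x)} := by
  constructor
  · intro x
    obtain ⟨R, j, hj, y, rfl⟩ := exists_chart x
    exact chart_cm_iff R j ω hω y
  · rw [isOpen_iff_forall_mem_open]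
    intro x hx
    obtain ⟨R, j, hj, y, rfl⟩ := exists_chart x
    obtain ⟨ωA, hωA, -⟩ := hω R j
    have := hωA.isNoetherianRing
    have hopen : IsOpen {p : PrimeSpectrum R |
        LocCoh.IsCohenMacaulayLocalRing (Localization.AtPrime p.asIdeal)} :=
      (cm_locus ωA hωA).1
    let V : Set (Spec (CommRingCat.of R)) := {y' |
      LocCoh.IsCohenMacaulayLocalRing (Localization.AtPrime (PrimeSpectrum.asIdeal (R := R) y'))}
    have hV : IsOpen V := hopen
    refine ⟨j '' V, ?_, j.isOpenEmbedding.isOpenMap V hV, ⟨y, ?_, rfl⟩⟩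
    · rintro _ ⟨y', hy', rfl⟩
      exact (chart_cm_iff_loc R j y').2 hy'
    · exact (chart_cm_iff_loc R j y).1 hx

end Groth.Agent.Lib.Helper25.SchCM
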